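import Groth.Agent.Lib.Helper45.WeakAssIsLoc
import Groth.Agent.Lib.Helper45.WeakAssFlat
import Groth.Agent.S1232
import Mathlib.RingTheory.Etale.StandardEtale
import Mathlib.RingTheory.Unramified.LocalStructure
import Mathlib.RingTheory.Localization.BaseChange

/-!
# Weakly associated primes and étale base change (helper9)

* `mem_weakAss_iff_comap_mem_weakAss_of_isLocalizedModule`: weakly associated primes of a localized
  module over the localized ring are those whose contraction is weakly associated.
* `mem_weakAss_tensor_iff_of_isLocalization_of_finite_flat`: for `A → B'` finite flat and `C` a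
  localization of `B'`, a prime `q` of `C` is weakly associated to `C ⊗[A] M` iff `q ∩ A` is weakly
  associated to `M`.
* `mem_weakAss_tensor_iff_of_etale`: the same for an étale algebra.
-/

set_option autoImplicit false

namespace Groth.Agent.Lib.Helper9

open TensorProduct Groth.Agent.Lib.Helper45

universe u

section Loc

variable {A : Type u} [CommRing A] (S : Submonoid A) (B : Type u) [CommRing B] [Algebra A B]
  [IsLocalization S B] {M N : Type u} [AddCommGroup M] [Module A M] [AddCommGroup N]
  [Module A N] [Module B N] [IsScalarTower A B N] (f : M →ₗ[A] N) [IsLocalizedModule S f]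

include S f in
theorem mem_weakAss_iff_comap_mem_weakAss_of_isLocalizedModule (q : Ideal B) [q.IsPrime] :
    q ∈ FlatCA.weakAss B N ↔ q.comap (algebraMap A B) ∈ FlatCA.weakAss A M := by
  constructor
  · rintro ⟨n, hn⟩
    obtain ⟨m, hm⟩ := exists_annEl_eq_map S B f n
    refine ⟨m, ?_⟩
    replace hn : q ∈ (annEl B n).minimalPrimes := hn
    rw [hm, IsLocalization.minimalPrimes_map S, Set.mem_preimage] at hn
    exact hn
  · rintro ⟨m, hm⟩
    refine ⟨f m, ?_⟩
    show q ∈ (annEl B (f m)).minimalPrimes
    rw [annEl_of_isLocalizedModule S B f m, IsLocalization.minimalPrimes_map S, Set.mem_preimage]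
    exact hm

end Loc

section TensorLoc

variable {A : Type u} [CommRing A] {B : Type u} [CommRing B] [Algebra A B] (S : Submonoid B)
  (C : Type u) [CommRing C] [Algebra A C] [Algebra B C] [IsScalarTower A B C] [IsLocalization S C]
  (M : Type u) [AddCommGroup M] [Module A M]

include S in
/-- For `C` a localization of the `A`-algebra `B`, a prime of `C` is weakly associated to
`C ⊗[A] M` iff its contraction to `B` is weakly associated to `B ⊗[A] M`. -/
theorem mem_weakAss_tensor_iff_comap_of_isLocalization (q : Ideal C) [q.IsPrime] :
    q ∈ FlatCA.weakAss C (C ⊗[A] M) ↔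
      q.comap (algebraMap B C) ∈ FlatCA.weakAss B (B ⊗[A] M) := by
  haveI : IsLocalizedModule S (Algebra.linearMap B C) := inferInstance
  exact mem_weakAss_iff_comap_mem_weakAss_of_isLocalizedModule S C
    (AlgebraTensorModule.rTensor A M (Algebra.linearMap B C)) q

include S in
/-- For `A → B` finite flat and `C` a localization of `B`, a prime of `C` is weakly associated to
`C ⊗[A] M` iff its contraction to `A` is weakly associated to `M`. -/
theorem mem_weakAss_tensor_iff_of_isLocalization_of_finite_flat [Module.Finite A B]
    [Module.Flat A B] (q : Ideal C) [q.IsPrime] :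
    q ∈ FlatCA.weakAss C (C ⊗[A] M) ↔ q.comap (algebraMap A C) ∈ FlatCA.weakAss A M := by
  rw [mem_weakAss_tensor_iff_comap_of_isLocalization S C M q]
  have : (q.comap (algebraMap B C)).LiesOver (q.comap (algebraMap A C)) := ⟨by
    rw [Ideal.under_def, Ideal.comap_comap, ← IsScalarTower.algebraMap_eq]⟩
  exact Groth.Agent.S1232.result M (q.comap (algebraMap A C)) (q.comap (algebraMap B C))

end TensorLoc

section StandardEtale

variable (A : Type u) [CommRing A] (C : Type u) [CommRing C] [Algebra A C]

/-- A standard étale algebra is a localization of a finite free algebra. -/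
theorem exists_finite_free_isLocalization_of_isStandardEtale [Algebra.IsStandardEtale A C] :
    ∃ (B : Type u) (_ : CommRing B) (_ : Algebra A B) (_ : Module.Finite A B)
      (_ : Module.Free A B) (_ : Algebra B C) (_ : IsScalarTower A B C) (h : B),
      IsLocalization.Away h C := by
  obtain ⟨P⟩ := Algebra.IsStandardEtale.nonempty_standardEtalePresentation (R := A) (S := C)
  let e : C ≃ₐ[A] Localization.Away (AdjoinRoot.mk P.f P.g) :=
    P.equivRing.trans P.P.equivAwayAdjoinRoot
  let φ : AdjoinRoot P.f →ₐ[A] C :=
    (e.symm : Localization.Away (AdjoinRoot.mk P.f P.g) →ₐ[A] C).comp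
      (IsScalarTower.toAlgHom A (AdjoinRoot P.f) (Localization.Away (AdjoinRoot.mk P.f P.g)))
  letI : Algebra (AdjoinRoot P.f) C := φ.toRingHom.toAlgebra
  have htower : IsScalarTower A (AdjoinRoot P.f) C :=
    IsScalarTower.of_algebraMap_eq (fun x => (φ.commutes x).symm)
  haveI : Module.Finite A (AdjoinRoot P.f) := P.monic_f.finite_adjoinRoot
  haveI : Module.Free A (AdjoinRoot P.f) := P.monic_f.free_adjoinRoot
  refine ⟨AdjoinRoot P.f, inferInstance, inferInstance, inferInstance, inferInstance,
    inferInstance, htower, AdjoinRoot.mk P.f P.g, ?_⟩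
  let e' : Localization.Away (AdjoinRoot.mk P.f P.g) ≃ₐ[AdjoinRoot P.f] C :=
    AlgEquiv.ofRingEquiv (f := e.symm.toRingEquiv) (fun x => rfl)
  exact IsLocalization.isLocalization_of_algEquiv (Submonoid.powers (AdjoinRoot.mk P.f P.g)) e'

end StandardEtale

section Etale

variable {A B : Type u} [CommRing A] [CommRing B] [Algebra A B] [Algebra.Etale A B]
  (M : Type u) [AddCommGroup M] [Module A M]

/-- For an étale `A`-algebra `B`, a prime `u` of `B` is weakly associated to `B ⊗[A] M` iff its
contraction to `A` is weakly associated to `M`. -/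
theorem mem_weakAss_tensor_iff_of_etale (u : Ideal B) [u.IsPrime] :
    u ∈ FlatCA.weakAss B (B ⊗[A] M) ↔ u.comap (algebraMap A B) ∈ FlatCA.weakAss A M := by
  obtain ⟨g, hgu, hstd⟩ := Algebra.IsEtaleAt.exists_isStandardEtale (R := A) u
  have hdisj : Disjoint (Submonoid.powers g : Set B) (u : Set B) :=
    (Ideal.disjoint_powers_iff_notMem_of_isPrime _).mpr hgu
  have hqprime : (u.map (algebraMap B (Localization.Away g))).IsPrime :=
    IsLocalization.isPrime_of_isPrime_disjoint (.powers g) _ _ ‹_› hdisj
  have hq : (u.map (algebraMap B (Localization.Away g))).comap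
      (algebraMap B (Localization.Away g)) = u :=
    IsLocalization.under_map_of_isPrime_disjoint (.powers g) (Localization.Away g) ‹_› hdisj
  have h1 := mem_weakAss_tensor_iff_comap_of_isLocalization (A := A) (Submonoid.powers g)
    (Localization.Away g) M (u.map (algebraMap B (Localization.Away g)))
  rw [hq] at h1
  rw [← h1]
  obtain ⟨B', _, _, _, _, _, _, h, hloc⟩ :=
    exists_finite_free_isLocalization_of_isStandardEtale A (Localization.Away g)
  rw [mem_weakAss_tensor_iff_of_isLocalization_of_finite_flat (A := A) (B := B')
    (Submonoid.powers h) (Localization.Away g) M (u.map (algebraMap B (Localization.Away g)))]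
  have h2 : (u.map (algebraMap B (Localization.Away g))).comap
      (algebraMap A (Localization.Away g)) = u.comap (algebraMap A B) := by
    conv_rhs => rw [← hq]
    rw [Ideal.comap_comap, ← IsScalarTower.algebraMap_eq]
  rw [h2]

end Etale

end Groth.Agent.Lib.Helper9
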