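import Groth.Agent.Lib.Helper9.WeakAss.Etale
import Groth.Agent.Lib.Helper9.Hens.EtaleModuleFlat
import Groth.Agent.Lib.Helper9.Hens.Dimension
import Mathlib.LinearAlgebra.TensorProduct.Finiteness
import Mathlib.RingTheory.Ideal.GoingDown

/-!
# Weakly associated primes and (strict) henselization (helper9)

For a flat local homomorphism of local rings `R → S` such that finite families of elements of `S`
come from étale `R`-algebras (e.g. a henselization or strict henselization), the maximal ideal of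
`S` is weakly associated to `S ⊗[R] N` iff the maximal ideal of `R` is weakly associated to `N`.
-/

set_option autoImplicit false

namespace Groth.Agent.Lib.Helper9

open TensorProduct Groth.Agent.Lib.Helper45

universe u

section

variable {R S : Type u} [CommRing R] [CommRing S] [Algebra R S]

theorem IsEtaleCoveredFin.isEtaleCovered (hS : IsEtaleCoveredFin R S) : IsEtaleCovered R S := by
  intro x
  obtain ⟨E, i1, i2, i3, φ, hφ⟩ := hS 1 (fun _ => x)
  exact ⟨E, i1, i2, i3, φ, hφ 0⟩

/-- Every element of `S ⊗[R] N` comes from `E ⊗[R] N` for an étale `R`-algebra `E` mapping to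
`S`. -/
theorem IsEtaleCoveredFin.exists_tensor_lift (hS : IsEtaleCoveredFin R S) (N : Type u)
    [AddCommGroup N] [Module R N] (z : S ⊗[R] N) :
    ∃ (E : Type u) (_ : CommRing E) (_ : Algebra R E) (_ : Algebra.Etale R E) (φ : E →ₐ[R] S)
      (zE : E ⊗[R] N), LinearMap.rTensor N φ.toLinearMap zE = z := by
  classical
  obtain ⟨T, hT⟩ := TensorProduct.exists_finset z
  let e : T ≃ Fin T.card := T.equivFin
  obtain ⟨E, i1, i2, i3, φ, hφ⟩ := hS T.card (fun i => (e.symm i).1.1)
  choose y hy' using hφ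
  have hy : ∀ i, φ (y i) = (e.symm i).1.1 := hy'
  refine ⟨E, i1, i2, i3, φ, ∑ i, y i ⊗ₜ[R] (e.symm i).1.2, ?_⟩
  rw [map_sum, hT]
  have h1 : ∀ i, LinearMap.rTensor N φ.toLinearMap (y i ⊗ₜ[R] (e.symm i).1.2) =
      (fun t : T => t.1.1 ⊗ₜ[R] t.1.2) (e.symm i) := by
    intro i
    rw [LinearMap.rTensor_tmul, AlgHom.toLinearMap_apply, hy]
  rw [Finset.sum_congr rfl (fun i _ => h1 i), Equiv.sum_comp e.symm
    (fun t : T => (t.1.1 ⊗ₜ[R] t.1.2 : S ⊗[R] N))]
  exact Finset.sum_coe_sort T (fun i => (i.1 ⊗ₜ[R] i.2 : S ⊗[R] N))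

variable [IsLocalRing R] [IsLocalRing S] [IsLocalHom (algebraMap R S)] [Module.Flat R S]

/-- `⇐` direction. -/
theorem maximalIdeal_mem_weakAss_tensor (hS : IsEtaleCovered R S) (N : Type u)
    [AddCommGroup N] [Module R N]
    (h : IsLocalRing.maximalIdeal R ∈ FlatCA.weakAss R N) :
    IsLocalRing.maximalIdeal S ∈ FlatCA.weakAss S (S ⊗[R] N) := by
  obtain ⟨n, hn⟩ := h
  replace hn : IsLocalRing.maximalIdeal R ∈ (annEl R n).minimalPrimes := hn
  have hcomap : (IsLocalRing.maximalIdeal S).comap (algebraMap R S) = IsLocalRing.maximalIdeal R :=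
    ((IsLocalRing.local_hom_TFAE (algebraMap R S)).out 0 4).mp ‹IsLocalHom (algebraMap R S)›
  refine ⟨(1 : S) ⊗ₜ[R] n, ?_⟩
  show IsLocalRing.maximalIdeal S ∈ (annEl S ((1 : S) ⊗ₜ[R] n)).minimalPrimes
  rw [annEl_one_tmul_of_flat]
  refine ⟨⟨inferInstance, ?_⟩, ?_⟩
  · rw [Ideal.map_le_iff_le_comap, hcomap]
    exact hn.1.2
  · intro Q hQ hQle
    have hQprime : Q.IsPrime := hQ.1
    have h1 : annEl R n ≤ Q.comap (algebraMap R S) := Ideal.map_le_iff_le_comap.mp hQ.2
    have h2 : Q.comap (algebraMap R S) ≤ IsLocalRing.maximalIdeal R := by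
      rw [← hcomap]; exact Ideal.comap_mono hQle
    have h3 : IsLocalRing.maximalIdeal R ≤ Q.comap (algebraMap R S) :=
      hn.2 ⟨Ideal.comap_isPrime _ _, h1⟩ h2
    by_contra hne
    have hlt : Q < IsLocalRing.maximalIdeal S := lt_of_le_of_ne hQle (fun h => hne h.ge)
    have := hS.under_lt_under hlt
    rw [Ideal.under_def, Ideal.under_def, hcomap] at this
    exact absurd (lt_of_le_of_lt h3 this) (lt_irrefl _)

/-- `⇒` direction. -/
theorem maximalIdeal_mem_weakAss_of_tensor (hS : IsEtaleCoveredFin R S) (N : Type u)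
    [AddCommGroup N] [Module R N]
    (h : IsLocalRing.maximalIdeal S ∈ FlatCA.weakAss S (S ⊗[R] N)) :
    IsLocalRing.maximalIdeal R ∈ FlatCA.weakAss R N := by
  obtain ⟨z, hz⟩ := h
  replace hz : IsLocalRing.maximalIdeal S ∈ (annEl S z).minimalPrimes := hz
  have hcomap : (IsLocalRing.maximalIdeal S).comap (algebraMap R S) = IsLocalRing.maximalIdeal R :=
    ((IsLocalRing.local_hom_TFAE (algebraMap R S)).out 0 4).mp ‹IsLocalHom (algebraMap R S)›
  obtain ⟨E, _, _, _, φ, zE, rfl⟩ := hS.exists_tensor_lift N z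
  letI : Algebra E S := φ.toRingHom.toAlgebra
  have htower : IsScalarTower R E S :=
    IsScalarTower.of_algebraMap_eq (fun x => (φ.commutes x).symm)
  have hflat : Module.Flat E S := flat_of_etale_of_flat_module R E S
  have hφ : ∀ a : E, algebraMap E S a = φ a := fun _ => rfl
  -- the annihilator of the image of `zE`
  have hc' : ∀ w : E ⊗[R] N, AlgebraTensorModule.cancelBaseChange R E S S N ((1 : S) ⊗ₜ[E] w) =
      LinearMap.rTensor N φ.toLinearMap w := by
    intro w
    induction w using TensorProduct.induction_on with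
    | zero => simp
    | tmul a n =>
      rw [AlgebraTensorModule.cancelBaseChange_tmul, LinearMap.rTensor_tmul,
        AlgHom.toLinearMap_apply, Algebra.smul_def, mul_one, hφ]
    | add x y hx hy => rw [tmul_add, map_add, map_add, hx, hy]
  have hc := hc' zE
  have hann : annEl S (LinearMap.rTensor N φ.toLinearMap zE) =
      (annEl E zE).map (algebraMap E S) := by
    rw [← annEl_one_tmul_of_flat (B := S) zE, ← hc]
    ext s
    rw [mem_annEl, mem_annEl, ← map_smul, LinearEquiv.map_eq_zero_iff]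
  rw [hann] at hz
  -- the contraction of the maximal ideal to `E` is weakly associated to `E ⊗ N`
  have hqprime : ((IsLocalRing.maximalIdeal S).comap (algebraMap E S)).IsPrime :=
    Ideal.comap_isPrime _ _
  have hq : (IsLocalRing.maximalIdeal S).comap (algebraMap E S) ∈ FlatCA.weakAss E (E ⊗[R] N) := by
    refine ⟨zE, ?_⟩
    show _ ∈ (annEl E zE).minimalPrimes
    refine ⟨⟨hqprime, Ideal.map_le_iff_le_comap.mp hz.1.2⟩, ?_⟩
    intro q' hq' hq'le
    have hq'prime : q'.IsPrime := hq'.1
    by_contra hnle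
    have hlt : q' < (IsLocalRing.maximalIdeal S).under E :=
      lt_of_le_of_ne hq'le (fun h => hnle h.ge)
    obtain ⟨Q', hQ'le, hQ'prime, hQ'over⟩ :=
      Algebra.HasGoingDown.exists_ideal_le_liesOver_of_lt (p := q') (IsLocalRing.maximalIdeal S) hlt
    have h1 : (annEl E zE).map (algebraMap E S) ≤ Q' := by
      rw [Ideal.map_le_iff_le_comap, ← Ideal.under_def, ← hQ'over.over]
      exact hq'.2
    have h2 : IsLocalRing.maximalIdeal S ≤ Q' := hz.2 ⟨hQ'prime, h1⟩ hQ'le
    have h3 : Q' = IsLocalRing.maximalIdeal S := le_antisymm hQ'le h2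
    apply hnle
    rw [hQ'over.over, h3]
  rw [mem_weakAss_tensor_iff_of_etale N _, Ideal.comap_comap,
    ← IsScalarTower.algebraMap_eq, hcomap] at hq
  exact hq

theorem maximalIdeal_mem_weakAss_tensor_iff (hS : IsEtaleCoveredFin R S) (N : Type u)
    [AddCommGroup N] [Module R N] :
    IsLocalRing.maximalIdeal S ∈ FlatCA.weakAss S (S ⊗[R] N) ↔
      IsLocalRing.maximalIdeal R ∈ FlatCA.weakAss R N :=
  ⟨maximalIdeal_mem_weakAss_of_tensor hS N, maximalIdeal_mem_weakAss_tensor hS.isEtaleCovered N⟩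

end

end Groth.Agent.Lib.Helper9
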